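import Mathlib.LinearAlgebra.ExteriorPower.Basic
import Mathlib.LinearAlgebra.Determinant
import Mathlib.RingTheory.Spectrum.Prime.FreeLocus
import Mathlib.RingTheory.LocalRing.Module
import Mathlib.Algebra.Module.FinitePresentation
import Mathlib.RingTheory.Ideal.Maps

/-!
# The top exterior power of a projective module modulo an element
-/

set_option autoImplicit false
set_option linter.style.haveILetI false
universe u

open exteriorPower

namespace GrothLib.HypDual

variable {R : Type u} [CommRing R] {P : Type u} [AddCommGroup P] [Module R P]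

/-- A local basis of a finite projective module of rank `n`. -/
theorem exists_localBasis [Module.Finite R P] [Module.Projective R P] {n : ℕ} (p : PrimeSpectrum R)
    (hn : Module.rankAtStalk P p = n) :
    ∃ s ∉ p.asIdeal, ∃ (e : Fin n → P) (φ : P →ₗ[R] (Fin n → R)),
      (∀ x : P, s • x = ∑ i, φ x i • e i) ∧ ∀ j, φ (e j) = s • Pi.single j (1 : R) := by
  classical
  let S := p.asIdeal.primeCompl
  let Rp := Localization.AtPrime p.asIdeal
  let Pp := LocalizedModule S P
  let g : P →ₗ[R] Pp := LocalizedModule.mkLinearMap S P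
  have : Nontrivial R := (PrimeSpectrum.nonempty_iff_nontrivial).1 ⟨p⟩
  haveI : Module.FinitePresentation R P := Module.finitePresentation_of_projective R P
  haveI : Module.Finite Rp Pp := Module.Finite.of_isLocalizedModule S g
  haveI : Module.Projective Rp Pp := inferInstance
  haveI : Module.Free Rp Pp := Module.free_of_flat_of_isLocalRing
  let b : Module.Basis (Fin n) Rp Pp := Module.finBasisOfFinrankEq Rp Pp hn
  choose q hq using fun i => IsLocalizedModule.surj S g (b i)
  let m : Fin n → P := fun i => (q i).1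
  let t : Fin n → S := fun i => (q i).2
  have hu : ∀ i, IsUnit (algebraMap R Rp (t i)) := fun i => IsLocalization.map_units Rp (t i)
  let b' : Module.Basis (Fin n) Rp Pp := b.unitsSMul fun i => (hu i).unit
  have hb' : ∀ i, b' i = g (m i) := fun i => by
    show b.unitsSMul (fun i => (hu i).unit) i = _
    rw [Module.Basis.unitsSMul_apply, Units.smul_def, IsUnit.unit_spec, algebraMap_smul, ← hq i]
    rfl
  choose h σ hσ using fun i => Module.FinitePresentation.exists_lift_of_isLocalizedModule S
    (Algebra.linearMap R Rp) (((b'.coord i).restrictScalars R) ∘ₗ g)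
  let s₀ : S := ∏ i, σ i
  let φ : P →ₗ[R] (Fin n → R) := LinearMap.pi fun i => ((∏ k ∈ Finset.univ.erase i, σ k : S) : R) • h i
  have hφ : ∀ x i, algebraMap R Rp (φ x i) = (s₀ : R) • b'.coord i (g x) := fun x i => by
    show algebraMap R Rp (((∏ k ∈ Finset.univ.erase i, σ k : S) : R) * h i x) = _
    have hs : algebraMap R Rp (h i x) = (σ i : R) • b'.coord i (g x) := LinearMap.congr_fun (hσ i) x
    rw [map_mul, hs, Algebra.smul_def, Algebra.smul_def, ← mul_assoc, ← map_mul, ← Submonoid.coe_mul,
      Finset.prod_erase_mul _ _ (Finset.mem_univ i)]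
  let Ψ : (Fin n → R) →ₗ[R] P := ∑ i, (LinearMap.proj i : (Fin n → R) →ₗ[R] R).smulRight (m i)
  have hΨ : ∀ v : Fin n → R, Ψ v = ∑ i, v i • m i := fun v => by simp [Ψ]
  have H₁ : g ∘ₗ Ψ ∘ₗ φ = g ∘ₗ ((s₀ : R) • LinearMap.id) := LinearMap.ext fun x => by
    show g (Ψ (φ x)) = g ((s₀ : R) • x)
    rw [hΨ, map_sum, map_smul]
    conv_rhs => rw [← b'.sum_repr (g x), Finset.smul_sum]
    refine Finset.sum_congr rfl fun i _ => ?_
    rw [map_smul, hb', ← algebraMap_smul Rp (φ x i), hφ, smul_assoc]
    rfl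
  obtain ⟨τ₁, hτ₁⟩ := Module.Finite.exists_smul_of_comp_eq_of_isLocalizedModule S g _ _ H₁
  have H₂ : ∀ i j, algebraMap R Rp (φ (m j) i) = algebraMap R Rp ((s₀ : R) * (Pi.single j 1 : Fin n → R) i) := fun i j => by
    rw [hφ, ← hb', Module.Basis.coord_apply, Module.Basis.repr_self, map_mul, Algebra.smul_def, Pi.single_apply,
      Finsupp.single_apply]
    rcases eq_or_ne j i with rfl | hne
    · rw [if_pos rfl, if_pos rfl, map_one]
    · rw [if_neg hne, if_neg hne.symm, map_zero]
  choose τ hτ using fun ij : Fin n × Fin n => (IsLocalization.eq_iff_exists S Rp).1 (H₂ ij.1 ij.2)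
  let τ₂ : S := τ₁ * ∏ ij, τ ij
  refine ⟨(τ₂ : R) * (s₀ : R), (τ₂ * s₀).2, m, (τ₂ : R) • φ, fun x => ?_, fun j => ?_⟩
  · have h1 : (τ₁ : R) • Ψ (φ x) = (τ₁ : R) • ((s₀ : R) • x) := LinearMap.congr_fun hτ₁ x
    calc ((τ₂ : R) * (s₀ : R)) • x = (τ₂ : R) • Ψ (φ x) := by
          rw [mul_smul]
          show ((τ₁ : R) * ((∏ ij, τ ij : S) : R)) • _ = ((τ₁ : R) * ((∏ ij, τ ij : S) : R)) • _
          rw [mul_comm, mul_smul, mul_smul, h1]
      _ = ∑ i, ((τ₂ : R) • φ) x i • m i := by
          rw [hΨ, Finset.smul_sum]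
          exact Finset.sum_congr rfl fun i _ => by rw [smul_smul]; rfl
  · funext i
    show (τ₂ : R) * φ (m j) i = ((τ₂ : R) * (s₀ : R)) * (Pi.single j 1 : Fin n → R) i
    have hd : (τ (i, j) : R) ∣ (τ₂ : R) :=
      (map_dvd S.subtype ((Finset.dvd_prod_of_mem τ (Finset.mem_univ (i, j))).trans (dvd_mul_left _ τ₁)))
    obtain ⟨c, hc⟩ := hd
    rw [hc, mul_assoc, mul_assoc, mul_comm (τ (i, j) : R), mul_assoc, mul_assoc]
    linear_combination c * hτ (i, j)

variable {n : ℕ} (v : P)

/-- The top exterior power of `P / R v`. -/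
abbrev TopPow (R : Type u) [CommRing R] {P : Type u} [AddCommGroup P] [Module R P] (n : ℕ) (v : P) : Type u := ↥(⋀[R]^n (P ⧸ Submodule.span R {v}))

theorem annihilator_topPow_le (hb : ∀ q : PrimeSpectrum R, ∃ s ∉ q.asIdeal, ∃ (e : Fin n → P) (φ : P →ₗ[R] (Fin n → R)),
      (∀ x : P, s • x = ∑ i, φ x i • e i) ∧ ∀ j, φ (e j) = s • Pi.single j (1 : R)) :
    Module.annihilator R (TopPow R n v) ≤ Ideal.span (Set.range fun φ : P →ₗ[R] R => φ v) := by
  classical
  let I := Ideal.span (Set.range fun φ : P →ₗ[R] R => φ v)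
  intro r hr
  by_contra hrI
  obtain ⟨M, hM, hle⟩ := Ideal.exists_le_maximal (Submodule.colon I {r})
    (fun h => hrI (by simpa using Submodule.mem_colon_singleton.1 (h ▸ Submodule.mem_top : (1 : R) ∈ Submodule.colon I {r})))
  obtain ⟨s, hs, e, φ, -, hφe⟩ := hb ⟨M, hM.isPrime⟩
  let ψ : P ⧸ Submodule.span R {v} →ₗ[R] (Fin n → R ⧸ I) :=
    (Submodule.span R {v}).liftQ ((Algebra.linearMap R (R ⧸ I)).compLeft (Fin n) ∘ₗ φ) (by
    rw [Submodule.span_singleton_le_iff_mem, LinearMap.mem_ker]
    funext i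
    exact Ideal.Quotient.eq_zero_iff_mem.2 (Ideal.subset_span ⟨(LinearMap.proj i).comp φ, rfl⟩))
  let D : (Fin n → R ⧸ I) [⋀^Fin n]→ₗ[R] (R ⧸ I) :=
    { (Matrix.detRowAlternating (R := R ⧸ I) (n := Fin n)).toMultilinearMap.restrictScalars R with
      map_eq_zero_of_eq' := fun v i j h h' =>
        (Matrix.detRowAlternating (R := R ⧸ I) (n := Fin n)).map_eq_zero_of_eq v h h' }
  let g := alternatingMapLinearEquiv (D.compLinearMap ψ)
  have hg : g (ιMulti R n fun i => Submodule.Quotient.mk (e i)) = Ideal.Quotient.mk I (s ^ n) := by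
    show alternatingMapLinearEquiv (D.compLinearMap ψ) _ = _
    rw [alternatingMapLinearEquiv_apply_ιMulti]
    show Matrix.det (fun i => ψ (Submodule.Quotient.mk (e i))) = _
    have : Matrix.det (Matrix.diagonal fun _ : Fin n => Ideal.Quotient.mk I s) = Ideal.Quotient.mk I (s ^ n) := by
      rw [Matrix.det_diagonal, Finset.prod_const, Finset.card_univ, Fintype.card_fin, map_pow]
    rw [← this]
    congr 1
    funext i j
    show Ideal.Quotient.mk I (φ (e i) j) = Matrix.diagonal (fun _ : Fin n => Ideal.Quotient.mk I s) i j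
    rw [hφe, Pi.smul_apply, smul_eq_mul, Matrix.diagonal_apply]
    rcases eq_or_ne i j with rfl | hij
    · rw [Pi.single_eq_same, if_pos rfl, mul_one]
    · rw [Pi.single_eq_of_ne hij.symm, if_neg hij, mul_zero, map_zero]
  have h0 : r • (ιMulti R n fun i => (Submodule.Quotient.mk (e i) : P ⧸ Submodule.span R {v})) = 0 :=
    Module.mem_annihilator.1 hr _
  have h := congrArg g h0
  rw [map_smul, hg, map_zero, Algebra.smul_def, Ideal.Quotient.algebraMap_eq, ← map_mul,
    Ideal.Quotient.eq_zero_iff_mem] at h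
  have hmem : s ^ n ∈ M := hle (Submodule.mem_colon_singleton.2 (by rw [smul_eq_mul, mul_comm]; exact h))
  exact hs (hM.isPrime.mem_of_pow_mem n hmem)

theorem apply_mem_annihilator_topPow (hb : ∀ q : PrimeSpectrum R, ∃ s ∉ q.asIdeal, ∃ (e : Fin n → P) (φ : P →ₗ[R] (Fin n → R)),
      (∀ x : P, s • x = ∑ i, φ x i • e i) ∧ ∀ j, φ (e j) = s • Pi.single j (1 : R)) (χ : P →ₗ[R] R) :
    χ v ∈ Module.annihilator R (TopPow R n v) := by
  classical
  rw [Module.mem_annihilator]
  intro z
  by_contra hz
  obtain ⟨M, hM, hle⟩ := Ideal.exists_le_maximal (LinearMap.ker (LinearMap.toSpanSingleton R (TopPow R n v) (χ v • z)))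
    (fun h => hz (by simpa using (h ▸ Submodule.mem_top : (1 : R) ∈ LinearMap.ker
      (LinearMap.toSpanSingleton R (TopPow R n v) (χ v • z)))))
  obtain ⟨s, hs, e, φ, hse, -⟩ := hb ⟨M, hM.isPrime⟩
  let eb : Fin n → P ⧸ Submodule.span R {v} := fun j => Submodule.Quotient.mk (e j)
  have hrel : ∀ i, φ v i • ιMulti R n eb = 0 := by
    intro i
    have hv : φ v i • eb i = -∑ j ∈ Finset.univ.erase i, φ v j • eb j := by
      rw [eq_neg_iff_add_eq_zero, Finset.add_sum_erase _ (fun j => φ v j • eb j) (Finset.mem_univ i)]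
      show ∑ j, φ v j • Submodule.mkQ (Submodule.span R {v}) (e j) = 0
      rw [← Finset.sum_congr rfl fun j _ => map_smul _ (φ v j) (e j), ← map_sum, ← hse v]
      exact (Submodule.Quotient.mk_eq_zero _).2 (Submodule.smul_mem _ s (Submodule.mem_span_singleton_self v))
    rw [show eb = Function.update eb i (eb i) from (Function.update_eq_self i eb).symm,
      ← AlternatingMap.map_update_smul, hv, AlternatingMap.map_update_neg, AlternatingMap.map_update_sum,
      Finset.sum_eq_zero, neg_zero]
    intro j hj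
    have hij : i ≠ j := (Finset.mem_erase.1 hj).1.symm
    rw [AlternatingMap.map_update_smul, AlternatingMap.map_eq_zero_of_eq (i := i) (j := j), smul_zero]
    · rw [Function.update_self, Function.update_of_ne hij.symm]
    · exact hij
  have hχ : (s * χ v) • ιMulti R n eb = 0 := by
    rw [show s * χ v = ∑ i, φ v i * χ (e i) by
      rw [← smul_eq_mul, ← map_smul, hse v, map_sum]
      exact Finset.sum_congr rfl fun i _ => by rw [map_smul, smul_eq_mul], Finset.sum_smul]
    exact Finset.sum_eq_zero fun i _ => by rw [mul_comm, mul_smul, hrel i, smul_zero]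
  have hspan : ∀ w : Fin n → P ⧸ Submodule.span R {v}, ∃ c : R, s ^ n • ιMulti R n w = c • ιMulti R n eb := by
    intro w
    choose x hx using fun k => Submodule.Quotient.mk_surjective _ (w k)
    have hw : ιMulti R n (fun k => s • w k) = s ^ n • ιMulti R n w := by
      rw [← Fin.prod_const n s]
      exact (ιMulti R n (M := P ⧸ Submodule.span R {v})).toMultilinearMap.map_smul_univ (fun _ => s) w
    rw [← hw]
    have hwk : (fun k => s • w k) = fun k => ∑ i, φ (x k) i • eb i := funext fun k => by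
      rw [← hx k, ← Submodule.Quotient.mk_smul, hse]
      exact map_sum (Submodule.mkQ _) _ _
    rw [hwk]
    refine Submodule.mem_span_singleton.1 ?_ |>.imp fun c hc => hc.symm
    show (ιMulti R n (M := P ⧸ Submodule.span R {v})).toMultilinearMap (fun k => ∑ i, φ (x k) i • eb i) ∈ _
    rw [MultilinearMap.map_sum]
    refine Submodule.sum_mem _ fun σ _ => ?_
    rw [MultilinearMap.map_smul_univ]
    refine Submodule.smul_mem _ _ ?_
    show ιMulti R n (fun k => eb (σ k)) ∈ _
    by_cases hinj : Function.Injective σ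
    · rw [show (fun k => eb (σ k)) = eb ∘ (Equiv.ofBijective σ ⟨hinj, Finite.surjective_of_injective hinj⟩) from rfl,
        AlternatingMap.map_perm, Units.smul_def, ← Int.cast_smul_eq_zsmul R]
      exact Submodule.smul_mem _ _ (Submodule.mem_span_singleton_self _)
    · obtain ⟨k, l, hkl, hne⟩ := Function.not_injective_iff.1 hinj
      rw [AlternatingMap.map_eq_zero_of_eq (ιMulti R n) (fun k => eb (σ k)) (congrArg eb hkl) hne]
      exact Submodule.zero_mem _
  have hall : ∀ z : TopPow R n v, (s ^ (n + 1) * χ v) • z = 0 := by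
    intro z
    have hz' : z ∈ Submodule.span R (Set.range (ιMulti R n (M := P ⧸ Submodule.span R {v}))) := by
      rw [ιMulti_span]; trivial
    induction hz' using Submodule.span_induction with
    | mem y hy =>
      obtain ⟨w, rfl⟩ := hy
      obtain ⟨c, hc⟩ := hspan w
      rw [show s ^ (n + 1) * χ v = (s * χ v) * s ^ n by ring, mul_smul, hc, smul_comm, hχ, smul_zero]
    | zero => rw [smul_zero]
    | add a b _ _ ha hb => rw [smul_add, ha, hb, add_zero]
    | smul c a _ ha => rw [smul_comm, ha, smul_zero]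
  have hmem : s ^ (n + 1) ∈ M := hle (by
    rw [LinearMap.mem_ker, LinearMap.toSpanSingleton_apply, smul_smul, hall])
  exact hs (hM.isPrime.mem_of_pow_mem _ hmem)

/-- The annihilator of `⋀^n (P / R v)` is the ideal of values at `v`. -/
theorem annihilator_topPow [Module.Finite R P] [Module.Projective R P]
    (hn : ∀ q : PrimeSpectrum R, Module.rankAtStalk P q = n) :
    Module.annihilator R (TopPow R n v) = Ideal.span (Set.range fun φ : P →ₗ[R] R => φ v) := by
  refine le_antisymm (annihilator_topPow_le v fun q => exists_localBasis q (hn q)) (Ideal.span_le.2 ?_)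
  rintro _ ⟨χ, rfl⟩
  exact apply_mem_annihilator_topPow v (fun q => exists_localBasis q (hn q)) χ

end GrothLib.HypDual
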