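import Groth.Agent.Lib.HypDual.Proj
import Mathlib.RingTheory.Smooth.Basic
import Mathlib.RingTheory.Kaehler.Basic
import Mathlib.RingTheory.EssentialFiniteness

/-!
# Differentials of a hypersurface in a smooth algebra
-/

set_option autoImplicit false
set_option linter.style.haveILetI false
universe u

open TensorProduct exteriorPower

namespace GrothLib.HypDual

variable {A B R : Type u} [CommRing A] [CommRing B] [CommRing R] [Algebra A B] [Algebra B R] [Algebra A R]
  [IsScalarTower A B R]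

/-- `1 ⊗ dg` in `R ⊗ Ω_{B/A}`. -/
noncomputable abbrev dOf (A : Type u) {B : Type u} (R : Type u) [CommRing A] [CommRing B] [CommRing R] [Algebra A B]
    [Algebra B R] (g : B) : R ⊗[B] Ω[B⁄A] := (1 : R) ⊗ₜ[B] KaehlerDifferential.D A B g

/-- `Ω_{R/A} ≅ (R ⊗ Ω_{B/A}) / R dg`. -/
noncomputable def kaehlerEquiv (g : B) (hsurj : Function.Surjective (algebraMap B R))
    (hker : RingHom.ker (algebraMap B R) = Ideal.span {g}) :
    ((R ⊗[B] Ω[B⁄A]) ⧸ Submodule.span R {dOf A R g}) ≃ₗ[R] Ω[R⁄A] :=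
  (Submodule.quotEquivOfEq _ _ (by
    have hgR : algebraMap B R g = 0 := by
      rw [← RingHom.mem_ker, hker]; exact Ideal.mem_span_singleton_self g
    refine le_antisymm ?_ ?_
    · rw [Submodule.span_singleton_le_iff_mem, LinearMap.mem_ker]
      simp [hgR]
    · intro z hz
      obtain ⟨y, rfl⟩ := (KaehlerDifferential.exact_kerCotangentToTensor_mapBaseChange A B R hsurj z).1 hz
      obtain ⟨⟨x, hx⟩, rfl⟩ := Ideal.toCotangent_surjective _ y
      rw [KaehlerDifferential.kerCotangentToTensor_toCotangent]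
      rw [hker, Ideal.mem_span_singleton'] at hx
      obtain ⟨b, rfl⟩ := hx
      show (1 : R) ⊗ₜ[B] KaehlerDifferential.D A B (b * g) ∈ _
      rw [Derivation.leibniz, tmul_add, tmul_smul, tmul_smul, smul_tmul', smul_tmul', Algebra.smul_def,
        Algebra.smul_def, hgR, zero_mul, zero_tmul, add_zero, mul_one]
      refine Submodule.mem_span_singleton.2 ⟨algebraMap B R b, ?_⟩
      rw [smul_tmul', smul_eq_mul, mul_one] :
    Submodule.span R {dOf A R g} = LinearMap.ker (KaehlerDifferential.mapBaseChange A B R))).trans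
    ((KaehlerDifferential.mapBaseChange A B R).quotKerEquivOfSurjective
      (KaehlerDifferential.mapBaseChange_surjective A B R hsurj))

variable [Algebra.Smooth A B]

omit [Algebra A R] [IsScalarTower A B R] in
theorem rankAtStalk_tensor_kaehler {n : ℕ} (hn : ∀ p : PrimeSpectrum B, Module.rankAtStalk (Ω[B⁄A]) p = n)
    (q : PrimeSpectrum R) : Module.rankAtStalk (R ⊗[B] Ω[B⁄A]) q = n :=
  (Module.rankAtStalk_baseChange q).trans (hn _)

/-- The annihilator of the top exterior power of the differentials of a hypersurface. -/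
theorem annihilator_topKaehler {n : ℕ} (hn : ∀ p : PrimeSpectrum B, Module.rankAtStalk (Ω[B⁄A]) p = n)
    (g : B) (hsurj : Function.Surjective (algebraMap B R))
    (hker : RingHom.ker (algebraMap B R) = Ideal.span {g}) :
    (⋀[R]^n (Ω[R⁄A])).annihilator =
      Ideal.span (Set.range fun φ : Ω[B⁄A] →ₗ[B] B => algebraMap B R (φ (KaehlerDifferential.D A B g))) := by
  let e := kaehlerEquiv (A := A) g hsurj hker
  let e' : ↥(⋀[R]^n ((R ⊗[B] Ω[B⁄A]) ⧸ Submodule.span R {dOf A R g})) ≃ₗ[R] ↥(⋀[R]^n (Ω[R⁄A])) :=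
    LinearEquiv.ofBijective (exteriorPower.map n e.toLinearMap) ⟨exteriorPower.map_injective
      (f := e.toLinearMap) e.symm.toLinearMap (LinearMap.ext fun x => e.symm_apply_apply x),
      exteriorPower.map_surjective e.surjective⟩
  show Module.annihilator R ↥(⋀[R]^n (Ω[R⁄A])) = _
  rw [← e'.annihilator_eq, annihilator_topPow _ (rankAtStalk_tensor_kaehler hn)]
  refine le_antisymm (Ideal.span_mono ?_) (Ideal.span_mono ?_)
  · rintro _ ⟨χ, rfl⟩
    let χ' : Ω[B⁄A] →ₗ[B] R := χ.restrictScalars B ∘ₗ TensorProduct.mk B R (Ω[B⁄A]) 1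
    obtain ⟨φ, hφ⟩ := Module.projective_lifting_property (Algebra.linearMap B R) χ' hsurj
    exact ⟨φ, LinearMap.congr_fun hφ (KaehlerDifferential.D A B g)⟩
  · rintro _ ⟨φ, rfl⟩
    refine ⟨(AlgebraTensorModule.rid B R R).toLinearMap ∘ₗ φ.baseChange R, ?_⟩
    show AlgebraTensorModule.rid B R R (φ.baseChange R ((1 : R) ⊗ₜ KaehlerDifferential.D A B g)) = _
    rw [LinearMap.baseChange_tmul, AlgebraTensorModule.rid_tmul, Algebra.smul_def, mul_one]

end GrothLib.HypDual
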