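import Mathlib.LinearAlgebra.ExteriorPower.Basic
import Mathlib.LinearAlgebra.Determinant
import Mathlib.RingTheory.Spectrum.Prime.FreeLocus
import Mathlib.LinearAlgebra.Dimension.Constructions
import Mathlib.RingTheory.Ideal.Maps

/-!
# The module `R^n / R a`: top exterior power and free locus
-/

set_option autoImplicit false
set_option linter.style.haveILetI false
universe u

open exteriorPower

namespace GrothLib.HypDual

variable {R : Type u} [CommRing R] {n : ℕ} (a : Fin n → R)

/-- `R^n / R a`. -/
abbrev Coker : Type u := (Fin n → R) ⧸ Submodule.span R {a}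

theorem annihilator_top_le : (⋀[R]^n (Coker a)).annihilator ≤ Ideal.span (Set.range a) := by
  let I := Ideal.span (Set.range a)
  let φ : Coker a →ₗ[R] (Fin n → R ⧸ I) := (Submodule.span R {a}).liftQ ((Algebra.linearMap R (R ⧸ I)).compLeft (Fin n)) (by
    rw [Submodule.span_singleton_le_iff_mem, LinearMap.mem_ker]
    funext i
    exact Ideal.Quotient.eq_zero_iff_mem.2 (Ideal.subset_span ⟨i, rfl⟩))
  let D : (Fin n → R ⧸ I) [⋀^Fin n]→ₗ[R] (R ⧸ I) :=
    { (Matrix.detRowAlternating (R := R ⧸ I) (n := Fin n)).toMultilinearMap.restrictScalars R with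
      map_eq_zero_of_eq' := fun v i j h h' =>
        (Matrix.detRowAlternating (R := R ⧸ I) (n := Fin n)).map_eq_zero_of_eq v h h' }
  let g := alternatingMapLinearEquiv (D.compLinearMap φ)
  have hg : g (ιMulti R n fun i => Submodule.Quotient.mk (Pi.single i (1 : R))) = 1 := by
    show alternatingMapLinearEquiv (D.compLinearMap φ) _ = 1
    rw [alternatingMapLinearEquiv_apply_ιMulti]
    show Matrix.det (fun i => φ (Submodule.Quotient.mk (Pi.single i (1 : R)))) = 1
    rw [← Matrix.det_one (n := Fin n) (R := R ⧸ I)]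
    congr 1
    funext i j
    show Ideal.Quotient.mk I ((Pi.single i (1 : R) : Fin n → R) j) = (1 : Matrix (Fin n) (Fin n) (R ⧸ I)) i j
    rw [Matrix.one_apply]
    rcases eq_or_ne i j with rfl | hij
    · rw [Pi.single_eq_same, if_pos rfl, map_one]
    · rw [Pi.single_eq_of_ne hij.symm, if_neg hij, map_zero]
  intro r hr
  have h0 : r • (ιMulti R n fun i => (Submodule.Quotient.mk (Pi.single i (1 : R)) : Coker a)) = 0 :=
    Module.mem_annihilator.1 hr _
  have h := congrArg g h0
  rw [map_smul, hg, map_zero] at h
  rw [← Ideal.Quotient.eq_zero_iff_mem]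
  simpa [Algebra.smul_def] using h

theorem span_le_annihilator_top : Ideal.span (Set.range a) ≤ (⋀[R]^n (Coker a)).annihilator := by
  classical
  rw [Ideal.span_le]
  rintro _ ⟨i, rfl⟩
  let e : Fin n → Coker a := fun j => Submodule.Quotient.mk (Pi.single j (1 : R))
  have he : Submodule.span R (Set.range e) = ⊤ := by
    rw [show Set.range e = (Submodule.mkQ (Submodule.span R {a})) '' Set.range (fun j => (Pi.single j (1 : R) : Fin n → R))
      by rw [← Set.range_comp]; rfl, Submodule.span_image]
    rw [show Submodule.span R (Set.range fun j => (Pi.single j (1 : R) : Fin n → R)) = ⊤ by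
      rw [← (Pi.basisFun R (Fin n)).span_eq]; congr 2; funext j; rw [Pi.basisFun_apply]]
    rw [Submodule.map_top, Submodule.range_mkQ]
  have hrel : a i • e i = -∑ j ∈ Finset.univ.erase i, a j • e j := by
    rw [eq_neg_iff_add_eq_zero, Finset.add_sum_erase _ (fun j => a j • e j) (Finset.mem_univ i)]
    show ∑ j, a j • Submodule.mkQ (Submodule.span R {a}) (Pi.single j (1 : R)) = 0
    rw [← Finset.sum_congr rfl fun j _ => map_smul _ (a j) (Pi.single j (1 : R)), ← map_sum]
    refine (Submodule.Quotient.mk_eq_zero _).2 ?_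
    convert Submodule.mem_span_singleton_self a
    funext k
    simp [Pi.single_apply]
  have key : ∀ v : Fin n → Coker a, (∀ k, v k ∈ Set.range e) → a i • ιMulti R n v = 0 := by
    intro v hv
    choose σ hσ using hv
    by_cases hinj : Function.Injective σ
    · obtain ⟨k, hk⟩ := Finite.surjective_of_injective hinj i
      have hvk : v = Function.update v k (e i) := by
        rw [← hk, hσ k, Function.update_eq_self]
      rw [hvk, ← AlternatingMap.map_update_smul, hrel, AlternatingMap.map_update_neg, AlternatingMap.map_update_sum,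
        Finset.sum_eq_zero, neg_zero]
      intro j hj
      obtain ⟨l, hl⟩ := Finite.surjective_of_injective hinj j
      have hlk : l ≠ k := fun h => (Finset.mem_erase.1 hj).1 (by rw [← hl, h, hk])
      rw [AlternatingMap.map_update_smul, AlternatingMap.map_eq_zero_of_eq (i := k) (j := l), smul_zero]
      · rw [Function.update_self, Function.update_of_ne hlk, ← hσ l, hl]
      · exact hlk.symm
    · obtain ⟨k, l, hkl, hne⟩ := Function.not_injective_iff.1 hinj
      rw [AlternatingMap.map_eq_zero_of_eq (ιMulti R n) v (by rw [← hσ k, ← hσ l, hkl]) hne, smul_zero]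
  refine Module.mem_annihilator.2 fun z => ?_
  have hz : z ∈ Submodule.span R (ιMulti R n '' {v | Set.range v ⊆ Set.range e}) := by
    rw [show Submodule.span R _ = ⊤ from ιMulti_span_of_span R n (Coker a) he]
    trivial
  induction hz using Submodule.span_induction with
  | mem w hw =>
    obtain ⟨v, hv, rfl⟩ := hw
    exact key v fun k => hv ⟨k, rfl⟩
  | zero => rw [smul_zero]
  | add x y _ _ hx hy => rw [smul_add, hx, hy, add_zero]
  | smul r x _ hx => rw [smul_comm, hx, smul_zero]

theorem mem_freeLocus_and_rank (p : PrimeSpectrum R) {i : Fin n} (hi : a i ∉ p.asIdeal) :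
    p ∈ Module.freeLocus R (Coker a) ∧ Module.rankAtStalk (Coker a) p = n - 1 := by
  classical
  let J := {j : Fin n // j ≠ i}
  let ψ : (Fin n → R) →ₗ[R] (J → R) :=
    LinearMap.pi fun j => a i • LinearMap.proj j.1 - a j.1 • LinearMap.proj i
  let ψ' : Coker a →ₗ[R] (J → R) := (Submodule.span R {a}).liftQ ψ (by
    rw [Submodule.span_singleton_le_iff_mem, LinearMap.mem_ker]
    funext j
    simp [ψ, mul_comm])
  let φ : (J → R) →ₗ[R] Coker a :=
    (Submodule.mkQ (Submodule.span R {a})) ∘ₗ ∑ j : J, LinearMap.single R (fun _ => R) j.1 ∘ₗ LinearMap.proj j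
  have h1 : ψ' ∘ₗ φ = a i • LinearMap.id := by
    refine LinearMap.ext fun x => funext fun j => ?_
    have hs : ∀ k : Fin n, (∑ l : J, (Pi.single (l : Fin n) (x l) : Fin n → R)) k =
        if h : k ≠ i then x ⟨k, h⟩ else 0 := fun k => by
      rw [Finset.sum_apply]
      split_ifs with h
      · rw [Finset.sum_eq_single ⟨k, h⟩, Pi.single_eq_same]
        · exact fun l _ hl => Pi.single_eq_of_ne (fun e => hl (Subtype.ext e.symm)) _
        · exact fun hl => absurd (Finset.mem_univ _) hl
      · exact Finset.sum_eq_zero fun l _ => Pi.single_eq_of_ne (fun e => h (fun hki => l.2 (e.symm.trans hki))) _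
    show ψ ((∑ l : J, LinearMap.single R (fun _ => R) l.1 ∘ₗ LinearMap.proj l) x) j = a i * x j
    rw [LinearMap.sum_apply]
    show a i * (∑ l : J, (Pi.single (l : Fin n) (x l) : Fin n → R)) j.1 -
      a j.1 * (∑ l : J, (Pi.single (l : Fin n) (x l) : Fin n → R)) i = a i * x j
    rw [hs, hs, dif_pos j.2, dif_neg (not_not.2 rfl), mul_zero, sub_zero]
  have h2 : φ ∘ₗ ψ' = a i • LinearMap.id := by
    refine Submodule.linearMap_qext _ (LinearMap.ext fun x => ?_)
    show Submodule.Quotient.mk _ = Submodule.Quotient.mk (a i • x)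
    rw [Submodule.Quotient.eq, Submodule.mem_span_singleton]
    refine ⟨-x i, funext fun k => ?_⟩
    show -x i * a k = ((∑ l : J, LinearMap.single R (fun _ => R) l.1 ∘ₗ LinearMap.proj l) (ψ x)) k - a i * x k
    rw [LinearMap.sum_apply, Finset.sum_apply]
    show -x i * a k = ∑ l : J, (Pi.single (l : Fin n) (ψ x l) : Fin n → R) k - a i * x k
    by_cases h : k = i
    · subst h
      rw [Finset.sum_eq_zero fun (l : J) _ => Pi.single_eq_of_ne (fun e => l.2 e.symm) _]
      ring
    · rw [Finset.sum_eq_single (⟨k, h⟩ : J), Pi.single_eq_same]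
      · show -x i * a k = (a i * x k - a k * x i) - a i * x k
        ring
      · exact fun l _ hl => Pi.single_eq_of_ne (fun e => hl (Subtype.ext e.symm)) _
      · exact fun hl => absurd (Finset.mem_univ _) hl
  let S := p.asIdeal.primeCompl
  let Rp := Localization.AtPrime p.asIdeal
  have hu : IsUnit (algebraMap R Rp (a i)) := IsLocalization.map_units Rp (⟨a i, hi⟩ : S)
  let φp := LocalizedModule.map S φ
  have hb : Function.Bijective φp := by
    let ψp := LocalizedModule.map S ψ'
    have key : ∀ {M N : Type u} [AddCommGroup M] [Module R M] [AddCommGroup N] [Module R N] (f : M →ₗ[R] N)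
        (g : N →ₗ[R] M), g ∘ₗ f = a i • LinearMap.id →
        ∀ z, LocalizedModule.map S g (LocalizedModule.map S f z) = a i • z := by
      intro M N _ _ _ _ f g h z
      induction z using LocalizedModule.induction_on with
      | h m s =>
        simp only [LocalizedModule.map_mk, LocalizedModule.smul'_mk]
        rw [show g (f m) = a i • m from LinearMap.congr_fun h m]
    have hinj : ∀ {M : Type u} [AddCommGroup M] [Module R M] (z : LocalizedModule S M), a i • z = 0 → z = 0 := by
      intro M _ _ z hz
      rw [← algebraMap_smul Rp, hu.smul_eq_zero] at hz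
      exact hz
    refine ⟨fun z w hzw => sub_eq_zero.1 (hinj _ ?_), fun w => ?_⟩
    · rw [smul_sub, ← key φ ψ' h1, ← key φ ψ' h1]
      exact sub_eq_zero.2 (congrArg _ hzw)
    · refine ⟨((hu.unit⁻¹ : Rpˣ) : Rp) • ψp w, ?_⟩
      rw [map_smul, key ψ' φ h2, ← algebraMap_smul Rp (a i), smul_smul, IsUnit.val_inv_mul, one_smul]
  let e := LinearEquiv.ofBijective φp hb
  have hfree : Module.Free Rp (LocalizedModule S (J → R)) :=
    Module.free_of_isLocalizedModule S (LocalizedModule.mkLinearMap S (J → R))
  refine ⟨Module.mem_freeLocus.2 (Module.Free.of_equiv e), ?_⟩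
  show Module.finrank Rp (LocalizedModule S (Coker a)) = n - 1
  have : Nontrivial R := (PrimeSpectrum.nonempty_iff_nontrivial).1 ⟨p⟩
  rw [← e.finrank_eq]
  show Module.rankAtStalk (J → R) p = n - 1
  rw [Module.rankAtStalk_eq_finrank_of_free, Pi.natCast_apply, Nat.cast_id, Module.finrank_fintype_fun_eq_card]
  simp [J, Fintype.card_subtype_compl]

end GrothLib.HypDual
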