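import Groth.Agent.Lib.HypDual.Kaehler
import Mathlib.RingTheory.Smooth.Locus
import Mathlib.RingTheory.Etale.Kaehler

/-!
# The smooth locus of a hypersurface in a smooth algebra
-/

set_option autoImplicit false
set_option linter.style.haveILetI false
universe u

open TensorProduct IsLocalRing

namespace GrothLib.HypDual

/-- Smoothness of a local hypersurface. -/
theorem formallySmooth_iff_exists_unit (A B' R' : Type u) [CommRing A] [CommRing B'] [CommRing R'] [Algebra A B']
    [Algebra B' R'] [Algebra A R'] [IsScalarTower A B' R'] [Algebra.FormallySmooth A B'] (g : B')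
    (hg : IsSMulRegular B' g) (hsurj : Function.Surjective (algebraMap B' R'))
    (hker : RingHom.ker (algebraMap B' R') = Ideal.span {g}) :
    Algebra.FormallySmooth A R' ↔
      ∃ χ : Ω[B'⁄A] →ₗ[B'] R', IsUnit (χ (KaehlerDifferential.D A B' g)) := by
  rw [Algebra.FormallySmooth.iff_split_injection (R := A) (P := B') (A := R') hsurj]
  let K := RingHom.ker (algebraMap B' R')
  have hgK : g ∈ K := hker.ge (Ideal.mem_span_singleton_self g)
  let g₀ : K.Cotangent := K.toCotangent ⟨g, hgK⟩
  have hk₀ : KaehlerDifferential.kerCotangentToTensor A B' R' g₀ =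
      (1 : R') ⊗ₜ[B'] KaehlerDifferential.D A B' g :=
    KaehlerDifferential.kerCotangentToTensor_toCotangent A B' R' _
  constructor
  · rintro ⟨l, hl⟩
    let e : B' ≃ₗ[B'] K := LinearEquiv.ofBijective
      ((LinearMap.toSpanSingleton B' B' g).codRestrict K fun b => Ideal.mul_mem_left _ b hgK)
      ⟨fun b c h => hg (show g * b = g * c by rw [mul_comm g b, mul_comm g c]; exact congrArg Subtype.val h), fun x => by
        obtain ⟨b, hb⟩ := Ideal.mem_span_singleton'.1 (hker.le x.2)
        exact ⟨b, Subtype.ext hb⟩⟩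
    let τ : K.Cotangent →ₗ[B'] R' := Submodule.liftQ _ ((Algebra.linearMap B' R') ∘ₗ e.symm.toLinearMap) (by
      rw [Submodule.smul_le]
      intro r hr x _
      show algebraMap B' R' (e.symm (r • x)) = 0
      rw [map_smul, smul_eq_mul, map_mul, RingHom.mem_ker.1 hr, zero_mul])
    have hτ : τ g₀ = 1 := by
      show algebraMap B' R' (e.symm ⟨g, hgK⟩) = 1
      rw [show (⟨g, hgK⟩ : K) = e 1 from Subtype.ext (one_mul g).symm, e.symm_apply_apply, map_one]
    refine ⟨τ ∘ₗ l ∘ₗ TensorProduct.mk B' R' (Ω[B'⁄A]) 1, ?_⟩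
    show IsUnit (τ (l ((1 : R') ⊗ₜ[B'] KaehlerDifferential.D A B' g)))
    have h1 : l ((1 : R') ⊗ₜ[B'] KaehlerDifferential.D A B' g) = g₀ := by
      rw [← hk₀]; exact LinearMap.congr_fun hl g₀
    rw [h1, hτ]
    exact isUnit_one
  · rintro ⟨χ, u, hu⟩
    let ι₀ : B' →ₗ[B'] K.Cotangent := LinearMap.toSpanSingleton B' _ g₀
    let ι : R' →ₗ[B'] K.Cotangent := (LinearMap.ker (Algebra.linearMap B' R')).liftQ ι₀ (fun b hb => by
      show b • g₀ = 0
      rw [← map_smul, Ideal.toCotangent_eq_zero, pow_two]
      exact Ideal.mul_mem_mul hb hgK) ∘ₗ ((Algebra.linearMap B' R').quotKerEquivOfSurjective hsurj).symm.toLinearMap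
    have hι : ∀ b : B', ι (algebraMap B' R' b) = b • g₀ := fun b => by
      simp only [ι, LinearMap.comp_apply, LinearEquiv.coe_coe]
      rw [show ((Algebra.linearMap B' R').quotKerEquivOfSurjective hsurj).symm (algebraMap B' R' b) =
        Submodule.Quotient.mk b from (LinearEquiv.symm_apply_eq _).2 rfl, Submodule.liftQ_apply]
      rfl
    let μ : R' ⊗[B'] Ω[B'⁄A] →ₗ[B'] R' :=
      TensorProduct.lift ((LinearMap.mul B' R').compl₂ (LinearMap.mulLeft B' ((u⁻¹ : R'ˣ) : R') ∘ₗ χ))
    refine ⟨ι ∘ₗ μ, LinearMap.ext fun z => ?_⟩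
    obtain ⟨⟨x, hx⟩, rfl⟩ := Ideal.toCotangent_surjective _ z
    obtain ⟨b, rfl⟩ := Ideal.mem_span_singleton'.1 (hker.le hx)
    rw [show (⟨b * g, hx⟩ : K) = b • ⟨g, hgK⟩ from Subtype.ext rfl, map_smul, map_smul]
    congr 1
    show ι (μ (KaehlerDifferential.kerCotangentToTensor A B' R' g₀)) = g₀
    rw [hk₀]
    show ι ((1 : R') * (((u⁻¹ : R'ˣ) : R') * χ (KaehlerDifferential.D A B' g))) = g₀
    rw [← hu, Units.inv_mul, one_mul, ← map_one (algebraMap B' R'), hι, one_smul]

variable {A B R : Type u} [CommRing A] [CommRing B] [CommRing R] [Algebra A B] [Algebra B R] [Algebra A R]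
  [IsScalarTower A B R] [Algebra.Smooth A B]

/-- A prime of a hypersurface is smooth iff some functional is invertible at `dg`. -/
theorem mem_smoothLocus_iff (g : B) (hg : IsSMulRegular B g) (hsurj : Function.Surjective (algebraMap B R))
    (hker : RingHom.ker (algebraMap B R) = Ideal.span {g}) (p : PrimeSpectrum R) :
    p ∈ Algebra.smoothLocus A R ↔
      ∃ φ : Ω[B⁄A] →ₗ[B] B, algebraMap B R (φ (KaehlerDifferential.D A B g)) ∉ p.asIdeal := by
  let q := p.asIdeal.comap (algebraMap B R)
  haveI : q.IsPrime := inferInstanceAs (p.asIdeal.comap (algebraMap B R)).IsPrime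
  let B' := Localization.AtPrime q
  let R' := Localization.AtPrime p.asIdeal
  letI : Algebra B' R' := (Localization.localRingHom q p.asIdeal (algebraMap B R) rfl).toAlgebra
  haveI : IsLocalHom (algebraMap B' R') := Localization.isLocalHom_localRingHom q p.asIdeal (algebraMap B R) rfl
  haveI : IsScalarTower B B' R' := IsScalarTower.of_algebraMap_eq fun b => by
    show _ = Localization.localRingHom q p.asIdeal (algebraMap B R) rfl (algebraMap B B' b)
    rw [Localization.localRingHom_to_map, ← IsScalarTower.algebraMap_apply]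
  haveI : IsScalarTower A B' R' := IsScalarTower.of_algebraMap_eq fun a => by
    rw [IsScalarTower.algebraMap_apply A B B', ← IsScalarTower.algebraMap_apply B B' R',
      ← IsScalarTower.algebraMap_apply A B R']
  haveI : Algebra.FormallySmooth B B' := Algebra.FormallySmooth.of_isLocalization q.primeCompl
  haveI : Algebra.FormallySmooth A B' := Algebra.FormallySmooth.comp A B B'
  have hg' : IsSMulRegular B' (algebraMap B B' g) :=
    IsSMulRegular.of_flat (S := B') hg
  have hsurj' : Function.Surjective (algebraMap B' R') := fun z => by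
    obtain ⟨⟨r, s⟩, rfl⟩ := IsLocalization.mk'_surjective p.asIdeal.primeCompl z
    obtain ⟨a, rfl⟩ := hsurj r
    obtain ⟨t, ht⟩ := hsurj s
    refine ⟨IsLocalization.mk' B' a (⟨t, fun h => s.2 (ht ▸ Ideal.mem_comap.1 h)⟩ : q.primeCompl), ?_⟩
    show Localization.localRingHom q p.asIdeal (algebraMap B R) rfl _ = _
    rw [Localization.localRingHom_mk']
    congr 1
    exact Subtype.ext ht
  have hker' : RingHom.ker (algebraMap B' R') = Ideal.span {algebraMap B B' g} := by
    refine le_antisymm (fun z hz => ?_) ?_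
    · obtain ⟨⟨b, t⟩, rfl⟩ := IsLocalization.mk'_surjective q.primeCompl z
      rw [RingHom.mem_ker] at hz
      change Localization.localRingHom q p.asIdeal (algebraMap B R) rfl _ = 0 at hz
      rw [Localization.localRingHom_mk', IsLocalization.mk'_eq_zero_iff] at hz
      obtain ⟨⟨c, hc⟩, hcb⟩ := hz
      obtain ⟨c, rfl⟩ := hsurj c
      have : c * b ∈ Ideal.span {g} := by rw [← hker, RingHom.mem_ker, map_mul]; exact hcb
      obtain ⟨d, hd⟩ := Ideal.mem_span_singleton'.1 this
      refine Ideal.mem_span_singleton'.2 ⟨IsLocalization.mk' B' d ((⟨c, hc⟩ : q.primeCompl) * t), ?_⟩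
      rw [mul_comm, IsLocalization.mul_mk'_eq_mk'_of_mul, IsLocalization.mk'_eq_iff_eq, Submonoid.coe_mul]
      exact congrArg (algebraMap B B') (by rw [mul_comm g d, hd]; ring)
    · rw [Ideal.span_singleton_le_iff_mem, RingHom.mem_ker, ← IsScalarTower.algebraMap_apply B B' R',
        IsScalarTower.algebraMap_apply B R R',
        show algebraMap B R g = 0 from RingHom.mem_ker.1 (hker.ge (Ideal.mem_span_singleton_self g)), map_zero]
  have hD : KaehlerDifferential.D A B' (algebraMap B B' g) =
      KaehlerDifferential.map A A B B' (KaehlerDifferential.D A B g) := (KaehlerDifferential.map_D A A B B' g).symm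
  show Algebra.FormallySmooth A R' ↔ _
  rw [formallySmooth_iff_exists_unit A B' R' (algebraMap B B' g) hg' hsurj' hker']
  constructor
  · rintro ⟨χ, hχ⟩
    let χ₀ : Ω[B⁄A] →ₗ[B] R' := χ.restrictScalars B ∘ₗ KaehlerDifferential.map A A B B'
    obtain ⟨φ', hφ'⟩ := Module.projective_lifting_property ((Algebra.linearMap B' R').restrictScalars B) χ₀ hsurj'
    haveI : Module.FinitePresentation B (Ω[B⁄A]) := Module.finitePresentation_of_projective B _
    obtain ⟨φ, s, hφ⟩ := Module.FinitePresentation.exists_lift_of_isLocalizedModule q.primeCompl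
      (Algebra.linearMap B B') φ'
    refine ⟨φ, fun hmem => ?_⟩
    have h1 : algebraMap B B' (φ (KaehlerDifferential.D A B g)) = (s : B) • φ' (KaehlerDifferential.D A B g) :=
      LinearMap.congr_fun hφ _
    have h2 : IsUnit (algebraMap B B' (φ (KaehlerDifferential.D A B g))) := by
      rw [h1, Algebra.smul_def]
      refine (IsLocalization.map_units B' s).mul (isUnit_of_map_unit (algebraMap B' R') _ ?_)
      rw [show algebraMap B' R' (φ' (KaehlerDifferential.D A B g)) = χ₀ (KaehlerDifferential.D A B g) from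
        LinearMap.congr_fun hφ' _]
      show IsUnit (χ (KaehlerDifferential.map A A B B' (KaehlerDifferential.D A B g)))
      rwa [← hD]
    exact (IsLocalization.AtPrime.isUnit_to_map_iff B' q _).1 h2 hmem
  · rintro ⟨φ, hφ⟩
    haveI : IsLocalizedModule q.primeCompl (KaehlerDifferential.map A A B B') := inferInstance
    let χ₀ : Ω[B'⁄A] →ₗ[B] R' := IsLocalizedModule.lift q.primeCompl (KaehlerDifferential.map A A B B')
      (Algebra.linearMap B R' ∘ₗ φ) (fun t => by
        rw [Module.End.isUnit_iff]
        have hu : IsUnit (algebraMap B R' t) := by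
          rw [IsScalarTower.algebraMap_apply B R R']
          exact IsLocalization.map_units R' (⟨algebraMap B R t, t.2⟩ : p.asIdeal.primeCompl)
        rw [show ⇑(algebraMap B (Module.End B R') t) = fun y => algebraMap B R' t * y from
          funext fun y => Algebra.smul_def (t : B) y]
        exact hu.unit.mulLeft.bijective)
    refine ⟨χ₀.extendScalarsOfIsLocalization q.primeCompl B', ?_⟩
    rw [hD]
    show IsUnit (χ₀ (KaehlerDifferential.map A A B B' (KaehlerDifferential.D A B g)))
    rw [IsLocalizedModule.lift_apply]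
    show IsUnit (algebraMap B R' (φ (KaehlerDifferential.D A B g)))
    rw [IsScalarTower.algebraMap_apply B R R']
    exact IsLocalization.map_units R' (⟨_, hφ⟩ : p.asIdeal.primeCompl)

end GrothLib.HypDual
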